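import Cfsg.Agent.Lib.GW.Deps.QGroup.TwoFacts
import Cfsg.Agent.Lib.GW.Deps.RankOne

/-!
# Groups with quasi-dihedral or wreathed Sylow 2-subgroup, trivial core and central `Z(S)`
-/

set_option autoImplicit false

namespace CfsgLib.GW.Deps.QGroup

open Subgroup Cfsg

variable {H : Type*} [Group H] [Finite H]

/-- The standing hypotheses. -/
structure Setting (S : Sylow 2 H) : Prop where
  shape : IsQuasiDihedral (S : Subgroup H) ∨ IsWreathed (S : Subgroup H)
  core : oddCore H = ⊥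
  central : ∀ c ∈ (S : Subgroup H), (∀ s ∈ (S : Subgroup H), c * s = s * c) → c ∈ center H

theorem eq_bot_of_odd (hO : oddCore H = ⊥) (N : Subgroup H) [N.Normal] (h : Odd (Nat.card N)) :
    N = ⊥ :=
  le_bot_iff.1 (hO ▸ le_core h)

/-- Normal subgroups inherit the trivial core. -/
theorem oddCore_normal (hO : oddCore H = ⊥) (N : Subgroup H) [N.Normal] : oddCore ↥N = ⊥ :=
  (map_eq_bot_iff_of_injective _ N.subtype_injective).1
    (le_bot_iff.1 (hO ▸ CfsgLib.Core.map_subtype_pPrimeCore_le (p := 2) N))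

/-- A normal subgroup all of whose `2`-elements are central is a central `2`-group. -/
theorem le_center_and_isPGroup (hO : oddCore H = ⊥) (N : Subgroup H) [N.Normal]
    (h : ∀ w ∈ N, IsPGroup 2 (zpowers w) → w ∈ center H) : N ≤ center H ∧ IsPGroup 2 N := by
  haveI : Fact (Nat.Prime 2) := ⟨Nat.prime_two⟩
  obtain ⟨T⟩ := (inferInstance : Nonempty (Sylow 2 N))
  have hTc : ∀ t ∈ (T : Subgroup N), (t : H) ∈ center H := fun t ht =>
    h t t.2 (IsPGroup.of_equiv (T.isPGroup'.to_le (zpowers_le.2 ht))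
      ((zpowers t).equivMapOfInjective N.subtype N.subtype_injective |>.trans
        (MulEquiv.subgroupCongr (MonoidHom.map_zpowers _ _))))
  have hc : normalizer ((T : Subgroup N) : Set N) ≤ centralizer ((T : Subgroup N) : Set N) :=
    fun n _ => mem_centralizer_iff.2 fun t ht =>
      Subtype.ext (mem_center_iff.1 (hTc t ht) (n : H)).symm
  have hcomp := MonoidHom.ker_transferSylow_isComplement' T hc
  set M := (MonoidHom.transferSylow T hc).ker with hM
  have hMidx : M.index = Nat.card (T : Subgroup N) := hcomp.symm.index_eq_card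
  have hMcard : Nat.card M = (T : Subgroup N).index := hcomp.index_eq_card.symm
  have hMbot : M = ⊥ := by
    have hodd : Odd (Nat.card M) := by
      rw [hMcard, Nat.odd_iff]
      have := T.not_dvd_index
      omega
    exact le_bot_iff.1 (oddCore_normal hO N ▸ le_core hodd)
  have hTtop : (T : Subgroup N) = ⊤ := eq_top_of_card_eq _ (by
    rw [← hMidx, hMbot, index_bot])
  exact ⟨fun w hw => hTc ⟨w, hw⟩ (hTtop ▸ mem_top _),
    (T.isPGroup'.of_equiv ((MulEquiv.subgroupCongr hTtop).trans topEquiv))⟩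

theorem isPGroup_center (hO : oddCore H = ⊥) : IsPGroup 2 (center H) :=
  (le_center_and_isPGroup hO (center H) fun _ hw _ => hw).2

theorem le_sylow_of_normal (N : Subgroup H) [N.Normal] (hN : IsPGroup 2 N) (S : Sylow 2 H) :
    N ≤ (S : Subgroup H) :=
  haveI : Fact (Nat.Prime 2) := ⟨Nat.prime_two⟩
  (CfsgLib.Core.le_pCore hN).trans (CfsgLib.Core.pCore_le_sylow S)

theorem center_le (hO : oddCore H = ⊥) (S : Sylow 2 H) : center H ≤ (S : Subgroup H) :=
  le_sylow_of_normal _ (isPGroup_center hO) S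

/-- Two elements which do not commute. -/
def NonAbel (Q : Subgroup H) : Prop := ∃ a ∈ Q, ∃ b ∈ Q, a * b ≠ b * a

namespace Setting

variable {S : Sylow 2 H} (h : Setting S)
include h

/-- A non-abelian 2-subgroup has central centraliser in any Sylow subgroup containing it. -/
theorem cent_central (T : Sylow 2 H) {Q : Subgroup H} (hQT : Q ≤ (T : Subgroup H)) (hQ : NonAbel Q)
    {c : H} (hcT : c ∈ (T : Subgroup H)) (hc : ∀ q ∈ Q, c * q = q * c) : c ∈ center H := by
  haveI : Fact (Nat.Prime 2) := ⟨Nat.prime_two⟩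
  obtain ⟨g, rfl⟩ := MulAction.exists_smul_eq H S T
  obtain ⟨U, hU, hab, -⟩ := qdw_exists h.shape
  let φ := MulAut.conj g⁻¹
  have hmem : ∀ {x : H}, x ∈ ((g • S : Sylow 2 H) : Subgroup H) → φ x ∈ (S : Subgroup H) := by
    intro x hx
    rw [Sylow.coe_subgroup_smul, Subgroup.mem_pointwise_smul_iff_inv_smul_mem, ← map_inv] at hx
    exact hx
  obtain ⟨a, ha, b, hb, hne⟩ := hQ
  let Y : Subgroup (S : Subgroup H) := ((Q.map φ.toMonoidHom)).subgroupOf S
  have hY : ∃ a ∈ Y, ∃ b ∈ Y, a * b ≠ b * a :=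
    ⟨⟨φ a, hmem (hQT ha)⟩, ⟨a, ha, rfl⟩, ⟨φ b, hmem (hQT hb)⟩, ⟨b, hb, rfl⟩, fun e =>
      hne (φ.injective (by rw [map_mul, map_mul]; exact congrArg Subtype.val e))⟩
  have hc' : (⟨φ c, hmem hcT⟩ : (S : Subgroup H)) ∈ center (S : Subgroup H) := by
    refine centralizer_le_center hU hab hY (mem_centralizer_iff.2 ?_)
    rintro ⟨y, hy⟩ ⟨q, hq, hqy⟩
    refine Subtype.ext ?_
    show y * φ c = φ c * y
    rw [← (show φ q = y from hqy), ← map_mul, ← map_mul, hc q hq]
  have h2 := h.central (φ c) (hmem hcT) fun s hs =>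
    (congrArg Subtype.val (mem_center_iff.1 hc' ⟨s, hs⟩)).symm
  have e : c = φ c := by
    have h3 : φ c * g⁻¹ = g⁻¹ * φ c := (mem_center_iff.1 h2 g⁻¹).symm
    have h4 : φ c = g⁻¹ * c * g := by rw [show φ c = g⁻¹ * c * g⁻¹⁻¹ from rfl, inv_inv]
    calc c = g * (g⁻¹ * c * g * g⁻¹) := by group
      _ = g * (g⁻¹ * φ c) := by rw [← h4, h3]
      _ = φ c := mul_inv_cancel_left _ _
  rwa [← e] at h2

/-- A `2`-element with inner action on a normalised `Q₈` lies in `Q₈` times the centre. -/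
theorem mem_q8_mul_center {Q : Subgroup H} (e : Q ≃* QuaternionGroup 2) {g : H}
    (hg : IsPGroup 2 (zpowers g)) (hgQ : g ∈ normalizer (Q : Set H))
    (hw : ∃ w, ∀ z, g * (e.symm z : H) * g⁻¹ = (e.symm (w * z * w⁻¹) : H)) :
    ∃ q ∈ Q, ∃ c ∈ center H, g = q * c := by
  haveI : Fact (Nat.Prime 2) := ⟨Nat.prime_two⟩
  obtain ⟨w, hw⟩ := hw
  have hQ2 : IsPGroup 2 Q := by
    refine IsPGroup.of_equiv (IsPGroup.of_card (n := 3) ?_) e.symm
    rw [Nat.card_eq_fintype_card, QuaternionGroup.card]; norm_num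
  obtain ⟨T, hT⟩ := (hg.to_sup_of_normal_right' hQ2 (zpowers_le.2 hgQ)).exists_le_sylow
  refine ⟨e.symm w, (e.symm w).2, (e.symm w : H)⁻¹ * g, ?_, by group⟩
  refine h.cent_central T (le_sup_right.trans hT) ?_ (mul_mem (inv_mem (hT (mem_sup_right
    (e.symm w).2))) (hT (mem_sup_left (mem_zpowers g)))) fun q hq => ?_
  · refine ⟨e.symm (.a 1), (e.symm (.a 1)).2, e.symm (.xa 0), (e.symm (.xa 0)).2, fun hh => ?_⟩
    have := congrArg e (Subtype.ext hh : e.symm (.a 1) * e.symm (.xa 0) = e.symm (.xa 0) * e.symm (.a 1))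
    rw [map_mul, map_mul, e.apply_symm_apply, e.apply_symm_apply] at this
    exact absurd this (by decide)
  · obtain ⟨z, hz⟩ : ∃ z, (e.symm z : H) = q := ⟨e ⟨q, hq⟩, by rw [e.symm_apply_apply]⟩
    subst hz
    have h1 := hw z
    rw [map_mul, map_mul, map_inv, Subgroup.coe_mul, Subgroup.coe_mul, InvMemClass.coe_inv] at h1
    calc (e.symm w : H)⁻¹ * g * e.symm z
        = (e.symm w : H)⁻¹ * (g * e.symm z * g⁻¹) * g := by group
      _ = _ := by rw [h1]; group

/-- The centraliser of a normal subgroup with a non-abelian 2-subgroup is central. -/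
theorem centralizer_le {L : Subgroup H} [L.Normal] {Y : Subgroup H} (hY2 : IsPGroup 2 Y)
    (hYL : Y ≤ L) (hY : NonAbel Y) : centralizer (L : Set H) ≤ center H := by
  haveI : Fact (Nat.Prime 2) := ⟨Nat.prime_two⟩
  refine (le_center_and_isPGroup h.core (centralizer (L : Set H)) fun w hw hw2 => ?_).1
  have hwY : ∀ q ∈ Y, w * q = q * w := fun q hq => (mem_centralizer_iff.1 hw q (hYL hq)).symm
  obtain ⟨T, hT⟩ := (hw2.to_sup_of_normal_right' hY2 (zpowers_le.2 (centralizer_le_normalizer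
    (Y : Set H) (mem_centralizer_iff.2 fun q hq => (hwY q hq).symm)))).exists_le_sylow
  exact h.cent_central T (le_sup_right.trans hT) hY (hT (mem_sup_left (mem_zpowers w))) hwY

theorem mem_normal_of_sylow {L : Subgroup H} [L.Normal] (hL : NonAbel (L ⊓ (S : Subgroup H)))
    {a b : H} (ha : a ∈ (S : Subgroup H)) (hb : b ∈ (S : Subgroup H)) :
    a * b * a⁻¹ * b⁻¹ ∈ L := by
  obtain ⟨U, hU, hab, -⟩ := qdw_exists h.shape
  obtain ⟨u, hu, v, hv, hne⟩ := hL
  have := commutator_mem hU hab (Y := L.subgroupOf (S : Subgroup H))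
    ⟨⟨u, hu.2⟩, hu.1, ⟨v, hv.2⟩, hv.1, fun e => hne (congrArg Subtype.val e)⟩ ⟨a, ha⟩ ⟨b, hb⟩
  exact this

/-- A subgroup with one involution in `S` does not cover `S` modulo the centre. -/
theorem exists_outside {L : Subgroup H}
    (hL : ∀ a ∈ L ⊓ (S : Subgroup H), ∀ b ∈ L ⊓ (S : Subgroup H),
      orderOf a = 2 → orderOf b = 2 → a = b) :
    ∃ s ∈ (S : Subgroup H), ¬ ∃ l ∈ L, ∃ c ∈ center H, s = l * c := by
  obtain ⟨U, -, -, hY⟩ := qdw_exists h.shape
  obtain ⟨g, hg⟩ := hY (L.subgroupOf (S : Subgroup H)) (fun a ha b hb ha2 hb2 =>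
    Subtype.ext (hL a ⟨ha, a.2⟩ b ⟨hb, b.2⟩ (by rwa [orderOf_coe]) (by rwa [orderOf_coe])))
  refine ⟨g, g.2, fun ⟨l, hl, c, hc, e⟩ => hg ?_⟩
  have hcS := center_le h.core S hc
  have hlS : l ∈ (S : Subgroup H) := by
    rw [eq_mul_inv_of_mul_eq e.symm]
    exact mul_mem g.2 (inv_mem hcS)
  exact ⟨⟨l, hlS⟩, hl, ⟨c, hcS⟩, mem_center_iff.2 fun s => Subtype.ext (mem_center_iff.1 hc s),
    Subtype.ext e⟩

/-- The derived group is contained in a normal subgroup `L` containing it modulo the centre. -/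
theorem commutator_le {L : Subgroup H} [L.Normal] (hL : NonAbel (L ⊓ (S : Subgroup H)))
    (hmod : ∀ a b : H, ∃ l ∈ L, ∃ c ∈ center H, a * b * a⁻¹ * b⁻¹ = l * c) :
    commutator H ≤ L := by
  haveI : Fact (Nat.Prime 2) := ⟨Nat.prime_two⟩
  let π := QuotientGroup.mk' L
  have hπ : Function.Surjective π := QuotientGroup.mk'_surjective L
  let T : Sylow 2 (H ⧸ L) := S.mapSurjective hπ
  have hT : ∀ x ∈ (T : Subgroup (H ⧸ L)), ∀ y ∈ (T : Subgroup (H ⧸ L)), x * y = y * x := by
    intro x hx y hy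
    rw [Sylow.coe_mapSurjective] at hx hy
    obtain ⟨a, ha, rfl⟩ := hx
    obtain ⟨b, hb, rfl⟩ := hy
    have h1 : π (a * b * a⁻¹ * b⁻¹) = 1 :=
      (QuotientGroup.eq_one_iff _).2 (h.mem_normal_of_sylow hL ha hb)
    rw [← map_mul, ← map_mul]
    refine mul_inv_eq_one.1 ?_
    rw [← map_inv, ← map_mul, show a * b * (b * a)⁻¹ = a * b * a⁻¹ * b⁻¹ by group, h1]
  have key : ∀ a b : H, π (a * b * a⁻¹ * b⁻¹) = 1 := fun a b => by
    obtain ⟨l, hl, c, hc, e⟩ := hmod a b
    have e2 : π (a * b * a⁻¹ * b⁻¹) = π c := by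
      rw [e, map_mul, show π l = 1 from (QuotientGroup.eq_one_iff l).2 hl, one_mul]
    rw [e2]
    refine eq_one_of_mem_commutator T hT ?_ ?_ ?_
    · rw [Sylow.coe_mapSurjective]
      exact mem_map_of_mem π (center_le h.core S hc)
    · refine mem_center_iff.2 fun x => ?_
      obtain ⟨x, rfl⟩ := hπ x
      rw [← map_mul, ← map_mul, mem_center_iff.1 hc x]
    · rw [← e2, map_mul, map_mul, map_mul, map_inv, map_inv, ← commutatorElement_def,
        _root_.commutator_def]
      exact Subgroup.commutator_mem_commutator (mem_top _) (mem_top _)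
  rw [_root_.commutator_def, Subgroup.commutator_le]
  intro a _ b _
  exact (QuotientGroup.eq_one_iff _).1 (key a b)

end Setting

end CfsgLib.GW.Deps.QGroup
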