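import Cfsg.Agent.Lib.GW.Deps.QGroup.Common
import Cfsg.Agent.Lib.GW.Deps.NormalSLTwo
import Cfsg.Agent.Lib.Signalizer.LocalKBalance

/-!
# The derived group of a corefree Q-group with central `Z(S)` is `SL(2, F)`
-/

set_option autoImplicit false
set_option linter.style.haveILetI false

namespace CfsgLib.GW.Deps.QGroup

open Subgroup Cfsg CfsgLib.GW.Deps.QuatTools
open scoped MatrixGroups

universe u

variable {F : Type} [Field F] [Fintype F]

/-- Outer automorphisms of `PSL(2, F)` commute. -/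
theorem comm_mem_inn (a b : MulAut (Matrix.ProjectiveSpecialLinearGroup (Fin 2) F)) :
    a * b * a⁻¹ * b⁻¹ ∈ Cfsg.Inn (Matrix.ProjectiveSpecialLinearGroup (Fin 2) F) := by
  obtain ⟨p, hchar⟩ := CharP.exists F
  obtain ⟨f, hp, hf⟩ := FiniteField.card F p
  haveI := Fact.mk hp
  obtain ⟨φ, -, h2, -, hker⟩ := CfsgLib.Known.AutPSL.exists_out_hom (F := F) (le_refl 2) hf f.pos
  have hle : Nat.card φ.ker ≤ 2 := hker ▸ Nat.gcd_le_left _ (by norm_num)
  have hcen : φ.ker ≤ center (Cfsg.Out (Matrix.ProjectiveSpecialLinearGroup (Fin 2) F)) := by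
    intro k hk
    refine mem_center_iff.2 fun g => ?_
    by_cases hk1 : k = 1
    · rw [hk1, one_mul, mul_one]
    have hg : g * k * g⁻¹ ∈ φ.ker := (MonoidHom.normal_ker φ).conj_mem k hk g
    have hne : g * k * g⁻¹ ≠ 1 := fun e => hk1 (conj_eq_one_iff.1 e)
    classical
    haveI := Fintype.ofFinite φ.ker
    have hall : ∀ a b : φ.ker, a ≠ 1 → b ≠ 1 → a = b := fun a b ha hb => by
      by_contra hab
      have : ({1, a, b} : Finset φ.ker).card ≤ 2 := by
        refine le_trans (Finset.card_le_univ _) ?_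
        rwa [← Nat.card_eq_fintype_card]
      rw [Finset.card_insert_of_notMem (by simp [Ne.symm ha, Ne.symm hb]),
        Finset.card_insert_of_notMem (by simpa using hab), Finset.card_singleton] at this
      omega
    have e := congrArg Subtype.val (hall ⟨_, hg⟩ ⟨k, hk⟩ (fun e => hne (congrArg Subtype.val e))
      (fun e => hk1 (congrArg Subtype.val e)))
    exact mul_inv_eq_iff_eq_mul.1 e
  haveI hcyc : IsCyclic φ.range := by
    let ρ : φ.range →* Multiplicative (ZMod f) :=
      (MonoidHom.fst _ _).comp φ.range.subtype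
    refine isCyclic_of_injective ρ fun x y e => ?_
    obtain ⟨x', hx⟩ := x.2
    obtain ⟨y', hy⟩ := y.2
    refine Subtype.ext (Prod.ext e ?_)
    rw [← hx, ← hy, h2 rfl, h2 rfl]
  have hcomm := commutative_of_cyclic_center_quotient φ.rangeRestrict
    (by rw [MonoidHom.ker_rangeRestrict]; exact hcen)
  let π := QuotientGroup.mk' (Cfsg.Inn (Matrix.ProjectiveSpecialLinearGroup (Fin 2) F))
  refine (QuotientGroup.eq_one_iff _).1 (?_ : π (a * b * a⁻¹ * b⁻¹) = 1)
  rw [map_mul, map_mul, map_mul, hcomm (π a) (π b), map_inv, map_inv]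
  group

/-- A quaternion group inside `SL(2, F)`. -/
theorem exists_quat_pair (hodd : Odd (Fintype.card F)) :
    ∃ u v : SL(2, F), u ^ 4 = 1 ∧ v ^ 4 = 1 ∧ v * u * v⁻¹ = u⁻¹ ∧ u * v ≠ v * u := by
  have h2 : (2 : F) ≠ 0 := CfsgLib.GW.KFactsProof.two_ne_zero_of_odd' hodd
  obtain ⟨a, b, hab⟩ : ∃ a b : F, a ^ 2 + (b ^ 2 + 1) = 0 := by
    obtain ⟨a, b, h⟩ := FiniteField.exists_root_sum_quadratic (R := F) (f := Polynomial.X ^ 2)
      (g := Polynomial.X ^ 2 + Polynomial.C 1) (Polynomial.degree_X_pow 2)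
      (Polynomial.degree_X_pow_add_C (by norm_num) 1) (Nat.odd_iff.1 hodd)
    exact ⟨a, b, by simpa using h⟩
  let u : SL(2, F) := ⟨!![0, -1; 1, 0], by simp [Matrix.det_fin_two]⟩
  let v : SL(2, F) := ⟨!![a, b; b, -a], by
    simp [Matrix.det_fin_two]
    linear_combination -hab⟩
  have hU : (u : Matrix (Fin 2) (Fin 2) F) = !![0, -1; 1, 0] := rfl
  have hV : (v : Matrix (Fin 2) (Fin 2) F) = !![a, b; b, -a] := rfl
  have hu2 : u * u = -1 := by
    ext i j; fin_cases i <;> fin_cases j <;> simp [hU, Matrix.mul_apply, Fin.sum_univ_two]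
  have hv2 : v * v = -1 := by
    ext i j
    fin_cases i <;> fin_cases j <;> simp [hV, Matrix.mul_apply, Fin.sum_univ_two]
    · linear_combination hab
    · ring
    · ring
    · linear_combination hab
  have huv : v * u = -(u * v) := by
    ext i j; fin_cases i <;> fin_cases j <;> simp [hU, hV, Matrix.mul_apply, Fin.sum_univ_two]
  have hui : u⁻¹ = -u := inv_eq_of_mul_eq_one_right (by rw [mul_neg, hu2, neg_neg])
  refine ⟨u, v, ?_, ?_, ?_, fun e => ?_⟩
  · rw [show (4 : ℕ) = 2 * 2 from rfl, pow_mul, pow_two u, hu2, neg_one_sq]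
  · rw [show (4 : ℕ) = 2 * 2 from rfl, pow_mul, pow_two v, hv2, neg_one_sq]
  · rw [hui, huv, neg_mul, mul_inv_cancel_right]
  · rw [huv] at e
    have e1 : (1 : SL(2, F)) = -1 := by
      have := congrArg (fun x => (u * v)⁻¹ * x) e
      simpa using this
    have e2 := congrArg (fun x : SL(2, F) => (x : Matrix (Fin 2) (Fin 2) F) 0 0) e1
    simp at e2
    exact h2 (by linear_combination e2)

/-- The only involution of `SL(2, F)`. -/
theorem eq_neg_one (h2 : (2 : F) ≠ 0) {g : SL(2, F)} (hg : orderOf g = 2) : g = -1 := by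
  have hsq : g * g = 1 := by
    have := pow_orderOf_eq_one g
    rwa [hg, pow_two] at this
  have hinv : g⁻¹ = g := inv_eq_of_mul_eq_one_right hsq
  have h1 := congrArg (fun x : SL(2, F) => (x : Matrix (Fin 2) (Fin 2) F)) hinv
  simp only [Matrix.SpecialLinearGroup.coe_inv, Matrix.adjugate_fin_two] at h1
  have e00 : g.1 1 1 = g.1 0 0 := by simpa using congrFun (congrFun h1 0) 0
  have e01 : g.1 0 1 = 0 := by
    have := congrFun (congrFun h1 0) 1
    simp at this
    have h' : (2 : F) * g.1 0 1 = 0 := by linear_combination -this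
    exact (mul_eq_zero.1 h').resolve_left h2
  have e10 : g.1 1 0 = 0 := by
    have := congrFun (congrFun h1 1) 0
    simp at this
    have h' : (2 : F) * g.1 1 0 = 0 := by linear_combination -this
    exact (mul_eq_zero.1 h').resolve_left h2
  have hd := g.2
  rw [Matrix.det_fin_two, e00, e01, zero_mul, sub_zero] at hd
  rcases mul_self_eq_one_iff.1 hd with e | e
  · exfalso
    have : g = 1 := by
      ext i j; fin_cases i <;> fin_cases j <;> simp [e, e00, e01, e10]
    rw [this, orderOf_one] at hg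
    omega
  · ext i j; fin_cases i <;> fin_cases j <;> simp [e, e00, e01, e10]

/-- Transport along a field isomorphism. -/
def slEquiv {A B : Type} [Field A] [Field B] (ψ : A ≃+* B) : SL(2, A) ≃* SL(2, B) where
  toFun := Matrix.SpecialLinearGroup.map ψ.toRingHom
  invFun := Matrix.SpecialLinearGroup.map ψ.symm.toRingHom
  left_inv g := Subtype.ext (Matrix.ext fun i j => by simp)
  right_inv g := Subtype.ext (Matrix.ext fun i j => by simp)
  map_mul' a b := map_mul _ a b

theorem pow_four_of_order_dvd_eight : ∀ g : SL(2, ZMod 3), g ^ 8 = 1 → g ^ 4 = 1 := by decide +kernel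

variable {H : Type u} [Group H] [Finite H]

/-- In the case of `SL(2, 3)` the derived group is not just the quaternion group. -/
theorem commutator_not_le_quat {S : Sylow 2 H} (h : Setting S) {L : Subgroup H} [L.Normal]
    (e : L ≃* Matrix.SpecialLinearGroup (Fin 2) (ZMod 3))
    (hle : ∀ l : L, (l : H) ∈ commutator H → (e l) ^ 4 = 1)
    (hone : ∀ a ∈ L ⊓ (S : Subgroup H), ∀ b ∈ L ⊓ (S : Subgroup H),
      orderOf a = 2 → orderOf b = 2 → a = b) : False := by
  haveI : Fact (Nat.Prime 2) := ⟨Nat.prime_two⟩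
  let ι : QuaternionGroup 2 →* H :=
    L.subtype.comp (e.symm.toMonoidHom.comp CfsgLib.Classical.Two.quatHom)
  have hι : Function.Injective ι :=
    L.subtype_injective.comp (e.symm.injective.comp CfsgLib.Classical.Two.quatHom_injective)
  let eQ : ι.range ≃* QuaternionGroup 2 := (MonoidHom.ofInjective hι).symm
  have heQ : ∀ z, (eQ.symm z : H) = ι z := fun z => rfl
  let a : H := (e.symm CfsgLib.ZStar.slThree : L)
  have hσ : ∀ z, a * ι z * a⁻¹ = ι (CfsgLib.ZStar.q8Sigma z) := by
    have key : ∀ z, CfsgLib.ZStar.slThree * CfsgLib.Classical.Two.quatHom z =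
        CfsgLib.Classical.Two.quatHom (CfsgLib.ZStar.q8Sigma z) * CfsgLib.ZStar.slThree := by
      decide +kernel
    intro z
    rw [mul_inv_eq_iff_eq_mul]
    exact congrArg Subtype.val ((map_mul e.symm _ _).symm.trans
      ((congrArg e.symm (key z)).trans (map_mul e.symm _ _)))
  -- the quaternion group is normal
  have hfour : ∀ x, x ∈ L → x ^ 4 = 1 → ∃ z, ι z = x := by
    intro x hx h4
    obtain ⟨z, hz⟩ := CfsgLib.Classical.Two.exists_quat_of_pow_four (e ⟨x, hx⟩) (by
      rw [← map_pow, ← map_one e]; exact congrArg e (Subtype.ext h4))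
    refine ⟨z, ?_⟩
    show ((e.symm (CfsgLib.Classical.Two.quatHom z) : L) : H) = x
    rw [hz, e.symm_apply_apply]
  have hι4 : ∀ z, ι z ^ 4 = 1 := by
    have key : ∀ z : QuaternionGroup 2, z ^ 4 = 1 := by decide +kernel
    intro z; rw [← map_pow, key, map_one]
  haveI hQn : ι.range.Normal := ⟨by
    rintro _ ⟨z, rfl⟩ g
    exact hfour _ (Subgroup.Normal.conj_mem inferInstance _ (e.symm _).2 g)
      (by rw [conj_pow, hι4, mul_one, mul_inv_cancel])⟩
  have hC : ∀ g : H, ∃ q, g * a * g⁻¹ = ι q * a := fun g => by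
    have hL : g * a * g⁻¹ * a⁻¹ ∈ L :=
      mul_mem (Subgroup.Normal.conj_mem inferInstance _ (e.symm _).2 g) (inv_mem (e.symm _).2)
    have hc : g * a * g⁻¹ * a⁻¹ ∈ commutator H := by
      rw [_root_.commutator_def]
      exact Subgroup.commutator_mem_commutator (mem_top g) (mem_top a)
    obtain ⟨q, hq⟩ := hfour _ hL (by
      have h4 := hle ⟨_, hL⟩ hc
      rw [← map_pow, MulEquiv.map_eq_one_iff] at h4
      exact congrArg Subtype.val h4)
    exact ⟨q, by rw [hq]; group⟩
  have hQL : ι.range ≤ L := by rintro _ ⟨z, rfl⟩; exact (e.symm _).2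
  have hQS : ∀ s ∈ (S : Subgroup H), ∃ l ∈ L, ∃ c ∈ center H, s = l * c := by
    intro s hs
    have hs2 : IsPGroup 2 (zpowers s) := S.isPGroup'.to_le (zpowers_le.2 hs)
    have hsn : s ∈ normalizer ((ι.range : Subgroup H) : Set H) := by
      rw [normalizer_eq_top]; exact mem_top s
    let β : MulAut (QuaternionGroup 2) := MulAut.congr eQ (MulAut.conjNormal s)
    have hβ : ∀ z, ι (β z) = s * ι z * s⁻¹ := fun z => by
      show ι (eQ (MulAut.conjNormal s (eQ.symm z))) = _
      rw [← heQ, eQ.symm_apply_apply, MulAut.conjNormal_apply, heQ]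
    obtain ⟨k, hk⟩ := hs2 ⟨s, mem_zpowers s⟩
    have hk' : s ^ 2 ^ k = 1 := congrArg Subtype.val hk
    have h4 : β ^ 4 = 1 := q8_four β (k := k) (by
      show (MulAut.congr eQ (MulAut.conjNormal s)) ^ 2 ^ k = 1
      rw [← map_pow, ← map_pow, hk', map_one, map_one])
    obtain ⟨q, hq⟩ := hC s
    have key : ∀ q v : QuaternionGroup 2, q * v * q⁻¹ = v ∨ q * v * q⁻¹ = .a 2 * v := by
      decide +kernel
    obtain ⟨w, hw⟩ := q8_inner_of_commute β h4 fun z => by
      have e1 : β (CfsgLib.ZStar.q8Sigma z) = q * CfsgLib.ZStar.q8Sigma (β z) * q⁻¹ := hι (by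
        rw [map_mul, map_mul, map_inv, hβ, ← hσ, ← hσ, hβ]
        calc s * (a * ι z * a⁻¹) * s⁻¹
            = (s * a * s⁻¹) * (s * ι z * s⁻¹) * (s * a * s⁻¹)⁻¹ := by group
          _ = _ := by rw [hq]; group)
      rw [e1]
      exact key _ _
    obtain ⟨l, hl, c, hc, e'⟩ := h.mem_q8_mul_center eQ hs2 hsn
      ⟨w, fun z => by rw [heQ, heQ, ← hw, hβ]⟩
    exact ⟨l, hQL hl, c, hc, e'⟩
  obtain ⟨s, hs, hn⟩ := h.exists_outside (L := L) hone
  exact hn (hQS s hs)

/-- **The derived group of a corefree Q-group with central `Z(S)`.** -/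
theorem commutator_eq (gw : CfsgLib.GW.GWStatement.{u}) {S : Sylow 2 H} (h : Setting S)
    (K : Subgroup H) [K.Normal] {n : ℕ} (hKi : K.index = 2 ^ n)
    (hK2 : ∀ M : Subgroup K, M.index ≠ 2)
    (hKq : ∀ P : Sylow 2 K, ∃ m : ℕ, 1 ≤ m ∧ Nonempty ((P : Subgroup K) ≃* QuaternionGroup (2 ^ m))) :
    ∃ (F : Type) (_ : Field F) (_ : Fintype F), Odd (Fintype.card F) ∧
      Nonempty (commutator H ≃* Matrix.SpecialLinearGroup (Fin 2) F) := by
  classical
  haveI : Fact (Nat.Prime 2) := ⟨Nat.prime_two⟩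
  obtain ⟨L, hLn, ⟨F, iF, iFF, hodd, ⟨e⟩⟩, -⟩ :=
    NormalSL.exists_normal_SL_two gw S h.shape h.core K hKi hK2 hKq
  refine ⟨F, iF, iFF, hodd, ?_⟩
  have h2 : (2 : F) ≠ 0 := CfsgLib.GW.KFactsProof.two_ne_zero_of_odd' hodd
  -- a non-abelian 2-subgroup of `L` in `S`
  obtain ⟨u, v, hu, hv, hvu, hne⟩ := exists_quat_pair (F := F) hodd
  let ψ : Matrix.SpecialLinearGroup (Fin 2) F →* H := L.subtype.comp e.symm.toMonoidHom
  have hψ : Function.Injective ψ := L.subtype_injective.comp e.symm.injective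
  have hψL : ∀ x, ψ x ∈ L := fun x => (e.symm x).2
  set Y := zpowers (ψ v) ⊔ zpowers (ψ u) with hYdef
  have hp : ∀ x : Matrix.SpecialLinearGroup (Fin 2) F, x ^ 4 = 1 → IsPGroup 2 (zpowers (ψ x)) := by
    intro x hx
    have hd : Nat.card (zpowers (ψ x)) ∣ 2 ^ 2 := by
      rw [Nat.card_zpowers]
      exact orderOf_dvd_of_pow_eq_one (by rw [← map_pow, show (2 : ℕ) ^ 2 = 4 from rfl, hx, map_one])
    obtain ⟨i, -, hi⟩ := (Nat.dvd_prime_pow Nat.prime_two).1 hd
    exact IsPGroup.of_card hi
  have hY2 : IsPGroup 2 Y := (hp v hv).to_sup_of_normal_right' (hp u hu) (by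
    rw [zpowers_le, ← CfsgLib.TwoGroups.map_conj_eq_iff_mem_normalizer, MonoidHom.map_zpowers]
    show zpowers (ψ v * ψ u * (ψ v)⁻¹) = zpowers (ψ u)
    rw [← map_inv, ← map_mul, ← map_mul, hvu, map_inv, zpowers_inv])
  have hYL : Y ≤ L := sup_le (zpowers_le.2 (hψL v)) (zpowers_le.2 (hψL u))
  obtain ⟨g, hg⟩ := CfsgLib.TwoGroups.exists_conj_le_sylow S hY2
  have hLS : NonAbel (L ⊓ (S : Subgroup H)) := by
    refine ⟨MulAut.conj g (ψ u), ⟨Subgroup.Normal.conj_mem inferInstance _ (hψL u) g,
      hg ⟨ψ u, mem_sup_right (mem_zpowers _), rfl⟩⟩, MulAut.conj g (ψ v),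
      ⟨Subgroup.Normal.conj_mem inferInstance _ (hψL v) g,
      hg ⟨ψ v, mem_sup_left (mem_zpowers _), rfl⟩⟩, fun hh => hne (hψ ?_)⟩
    rw [map_mul, map_mul]
    exact (MulAut.conj g).injective (by rw [map_mul, map_mul]; exact hh)
  have hcentL : centralizer (L : Set H) ≤ center H :=
    h.centralizer_le hY2 hYL ⟨ψ u, mem_sup_right (mem_zpowers _), ψ v, mem_sup_left (mem_zpowers _),
      fun hh => hne (hψ (by rw [map_mul, map_mul]; exact hh))⟩
  -- action on `PSL(2, F)`
  let eP : (L ⧸ center L) ≃* Matrix.ProjectiveSpecialLinearGroup (Fin 2) F :=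
    QuotientGroup.congr (center L) (center (Matrix.SpecialLinearGroup (Fin 2) F)) e (by
      refine le_antisymm ?_ fun y hy => ⟨e.symm y, ?_, e.apply_symm_apply y⟩
      · rintro _ ⟨x, hx, rfl⟩
        refine mem_center_iff.2 fun y => ?_
        obtain ⟨y, rfl⟩ := e.surjective y
        exact (map_mul e y x).symm.trans ((congrArg e (mem_center_iff.1 hx y)).trans (map_mul e x y))
      · refine mem_center_iff.2 fun x => e.injective ?_
        rw [map_mul, map_mul, e.apply_symm_apply, mem_center_iff.1 hy])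
  let Φ : H →* MulAut (Matrix.ProjectiveSpecialLinearGroup (Fin 2) F) :=
    (MulAut.congr eP).toMonoidHom.comp
      ((CfsgLib.Signalizer.autModCenter L).comp MulAut.conjNormal)
  have hΦker : ∀ x, Φ x = 1 → x ∈ center H := fun x hx => hcentL <| by
    have h1 : CfsgLib.Signalizer.autModCenter L (MulAut.conjNormal x) = 1 :=
      (MulAut.congr eP).injective (hx.trans (map_one _).symm)
    refine mem_centralizer_iff.2 fun l hl => ?_
    set α : MulAut L := MulAut.conjNormal x with hα
    have hz : ∀ k : L, k⁻¹ * α k ∈ center L := fun k => QuotientGroup.eq.mp (by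
      exact (DFunLike.congr_fun h1 (k : L ⧸ center L)).symm)
    let δ : L →* center L := MonoidHom.mk' (fun k => ⟨k⁻¹ * α k, hz k⟩) fun a b => Subtype.ext (by
      show (a * b)⁻¹ * α (a * b) = a⁻¹ * α a * (b⁻¹ * α b)
      rw [map_mul, mul_inv_rev]
      have := mem_center_iff.mp (hz a) b⁻¹
      calc b⁻¹ * a⁻¹ * (α a * α b) = b⁻¹ * (a⁻¹ * α a) * α b := by group
        _ = (a⁻¹ * α a) * b⁻¹ * α b := by rw [this]
        _ = _ := by group)
    have hc2 : Nat.card (center L) ∣ 2 := by
      rw [Nat.card_congr (Subgroup.centerCongr e).toEquiv, CfsgLib.Classical.card_center_SL,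
        Fintype.card_fin]
      exact Nat.gcd_dvd_left _ _
    letI : CommGroup (center L) := { (inferInstance : Group (center L)) with mul_comm := mul_comm' }
    have hd : δ.ker.index ∣ 2 := by
      rw [Subgroup.index_ker]
      exact (Subgroup.card_subgroup_dvd_card δ.range).trans hc2
    have htop : δ.ker = ⊤ := by
      refine Subgroup.index_eq_one.1 (((Nat.dvd_prime Nat.prime_two).1 hd).resolve_right fun h2' => ?_)
      refine sl_abelianization_odd hodd (F := F) ?_
      have h3 : (commutator L).map e.toMonoidHom = commutator (Matrix.SpecialLinearGroup (Fin 2) F) := by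
        rw [_root_.commutator_def, _root_.commutator_def, map_commutator,
          Subgroup.map_top_of_surjective _ e.surjective]
      rw [← h3, Subgroup.index_map_of_bijective e.bijective, ← h2']
      exact Subgroup.index_dvd_of_le (Abelianization.commutator_subset_ker δ)
    have := congrArg (fun z : center L => ((z : L) : L)) (MonoidHom.mem_ker.1 (htop ▸ mem_top (⟨l, hl⟩ : L) : (⟨l, hl⟩ : L) ∈ δ.ker))
    have h4 : α ⟨l, hl⟩ = ⟨l, hl⟩ := (inv_mul_eq_one.1 this).symm
    have h5 : x * l * x⁻¹ = l := by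
      have := congrArg Subtype.val h4
      rwa [hα, MulAut.conjNormal_apply] at this
    exact (mul_inv_eq_iff_eq_mul.1 h5).symm
  have hinn : ∀ p, ∃ l ∈ L, Φ l = MulAut.conj p := fun p => by
    obtain ⟨q, rfl⟩ := eP.surjective p
    obtain ⟨l, rfl⟩ := QuotientGroup.mk_surjective q
    refine ⟨l, l.2, MulEquiv.ext fun p => ?_⟩
    obtain ⟨q, rfl⟩ := eP.surjective p
    obtain ⟨m, rfl⟩ := QuotientGroup.mk_surjective q
    show eP (CfsgLib.Signalizer.autModCenter L (MulAut.conjNormal (l : H)) (eP.symm (eP (m : L ⧸ center L)))) = _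
    rw [eP.symm_apply_apply, MulAut.conj_apply, ← map_inv eP, ← map_mul eP, ← map_mul eP]
    refine congrArg eP ?_
    show ((MulAut.conjNormal (l : H) m : L) : L ⧸ center L) = ((l * m * l⁻¹ : L) : L ⧸ center L)
    exact congrArg _ (Subtype.ext (MulAut.conjNormal_apply (l : H) m))
  have hle : commutator H ≤ L := by
    refine h.commutator_le hLS fun a b => ?_
    obtain ⟨p, hp⟩ : Φ (a * b * a⁻¹ * b⁻¹) ∈ Cfsg.Inn (Matrix.ProjectiveSpecialLinearGroup (Fin 2) F) := by
      rw [map_mul, map_mul, map_mul, map_inv, map_inv]; exact comm_mem_inn _ _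
    obtain ⟨l, hl, hl'⟩ := hinn p
    refine ⟨l, hl, l⁻¹ * (a * b * a⁻¹ * b⁻¹), hΦker _ ?_, by group⟩
    rw [map_mul, map_inv, hl', hp, inv_mul_cancel]
  -- equality
  have hone : ∀ a ∈ L ⊓ (S : Subgroup H), ∀ b ∈ L ⊓ (S : Subgroup H),
      orderOf a = 2 → orderOf b = 2 → a = b := by
    intro a ha b hb ha2 hb2
    refine congrArg Subtype.val (e.injective (?_ : e ⟨a, ha.1⟩ = e ⟨b, hb.1⟩))
    exact (CfsgLib.GW.Deps.QGroup.eq_neg_one h2 (by rw [e.orderOf_eq, orderOf_mk, ha2])).trans
      (CfsgLib.GW.Deps.QGroup.eq_neg_one h2 (by rw [e.orderOf_eq, orderOf_mk, hb2])).symm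
  have hge : L ≤ commutator H := by
    have hcl : ⁅L, L⁆ ≤ commutator H := by
      rw [_root_.commutator_def]; exact commutator_mono le_top le_top
    have hder : ⁅L, L⁆ = (commutator L).map L.subtype := (Subgroup.map_subtype_commutator L).symm
    have he : (commutator L).map e.toMonoidHom = commutator (Matrix.SpecialLinearGroup (Fin 2) F) := by
      rw [_root_.commutator_def, _root_.commutator_def, map_commutator,
        Subgroup.map_top_of_surjective _ e.surjective]
    rcases card_eq_three_or hodd with h3 | h3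
    · by_contra hcon
      let C : Subgroup L := (commutator H).subgroupOf L
      have hC : commutator L ≤ C := fun x hx =>
        hcl (hder ▸ mem_map_of_mem L.subtype hx)
      have hi3 : (commutator L).index ∣ 3 := by
        rw [← Subgroup.index_map_of_bijective (f := e.toMonoidHom) e.bijective, he]
        have hcard : Nat.card (Matrix.SpecialLinearGroup (Fin 2) F) = 24 := by
          rw [CfsgLib.Classical.Two.card_SL_two, h3]; norm_num
        have hodd3 := sl_abelianization_odd (F := F) hodd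
        have hd := (commutator (Matrix.SpecialLinearGroup (Fin 2) F)).index_dvd_card
        rw [hcard, show (24 : ℕ) = 2 ^ 3 * 3 from rfl] at hd
        exact (Nat.Coprime.pow_right 3 (Nat.prime_two.coprime_iff_not_dvd.2 hodd3).symm).dvd_of_dvd_mul_left hd
      have hCi : C.index = 3 := by
        rcases (Nat.dvd_prime Nat.prime_three).1 ((Subgroup.index_dvd_of_le hC).trans hi3) with h1 | h1
        · exact absurd (subgroupOf_eq_top.1 (Subgroup.index_eq_one.1 h1)) hcon
        · exact h1
      let ψ3 : ZMod 3 ≃+* F := ZMod.ringEquivOfPrime F Nat.prime_three h3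
      let m : Matrix.SpecialLinearGroup (Fin 2) F ≃* Matrix.SpecialLinearGroup (Fin 2) (ZMod 3) :=
        CfsgLib.GW.Deps.QGroup.slEquiv ψ3.symm
      refine commutator_not_le_quat h (e.trans m) (fun l hl => ?_) hone
      haveI : C.Normal := Subgroup.normal_subgroupOf
      have hcC : Nat.card C = 8 := by
        have := C.card_mul_index
        rw [hCi, Nat.card_congr e.toEquiv, CfsgLib.Classical.Two.card_SL_two, h3] at this
        omega
      obtain ⟨P, hP⟩ : ∃ P : Subgroup (Matrix.SpecialLinearGroup (Fin 2) (ZMod 3)),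
          P = C.map (e.trans m).toMonoidHom := ⟨_, rfl⟩
      have hmem : (e.trans m) l ∈ P := hP ▸ mem_map_of_mem (e.trans m).toMonoidHom (mem_subgroupOf.2 hl)
      have hd := P.orderOf_dvd_natCard hmem
      rw [hP, ← Nat.card_congr (C.equivMapOfInjective _ (e.trans m).injective).toEquiv, hcC] at hd
      exact CfsgLib.GW.Deps.QGroup.pow_four_of_order_dvd_eight _ (orderOf_dvd_iff_pow_eq_one.1 hd)
    · refine le_trans ?_ hcl
      rw [hder]
      intro x hx
      refine ⟨⟨x, hx⟩, SetLike.mem_coe.2 ?_, rfl⟩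
      rw [← mem_map_iff_mem (f := e.toMonoidHom) e.injective, he, sl_perfect h3]
      exact mem_top _
  exact ⟨(MulEquiv.subgroupCongr (le_antisymm hle hge)).trans e⟩

end CfsgLib.GW.Deps.QGroup
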