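import Cfsg.Agent.Lib.ZStar.SLTwoThree
import Cfsg.Prelude.Def_CaseTheorems
import Mathlib

/-!
# Facts on quasi-dihedral and wreathed 2-groups for the centraliser theorem

* an abelian subgroup of index two;
* consequences for centralisers and quotients by non-abelian subgroups;
* no subgroup with one involution covers the group modulo its centre;
* automorphisms of `Q₈` trivial modulo the centre are inner;
* a central element of the derived group with abelian Sylow subgroup.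
-/

set_option autoImplicit false

namespace CfsgLib.GW.Deps.QGroup

open Subgroup

variable {P : Type*} [Group P]

/-- A subgroup with at most one involution. -/
def OneInvol (Y : Subgroup P) : Prop :=
  ∀ a ∈ Y, ∀ b ∈ Y, orderOf a = 2 → orderOf b = 2 → a = b

theorem OneInvol.mono {Y Y' : Subgroup P} (h : OneInvol Y) (hle : Y' ≤ Y) : OneInvol Y' :=
  fun a ha b hb => h a (hle ha) b (hle hb)

section IndexTwo

variable {U : Subgroup P}

/-- If `U` is abelian of index two and `y ∉ U`, an element of `U` commuting with `y` is central. -/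
theorem mem_center_of_commute (hU : U.index = 2) (hab : ∀ a ∈ U, ∀ b ∈ U, a * b = b * a)
    {y u : P} (hy : y ∉ U) (hu : u ∈ U) (huy : u * y = y * u) : u ∈ center P := by
  rw [mem_center_iff]
  intro g
  by_cases hg : g ∈ U
  · exact hab g hg u hu
  · have h1 : y⁻¹ * g ∈ U := by
      rw [mul_mem_iff_of_index_two hU]
      simp [hy, hg]
    calc g * u = y * (y⁻¹ * g * u) := by group
      _ = y * (u * (y⁻¹ * g)) := by rw [hab _ h1 _ hu]
      _ = y * u * y⁻¹ * g := by group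
      _ = u * g := by rw [← huy]; group

/-- The centraliser of a non-abelian subgroup is central. -/
theorem centralizer_le_center (hU : U.index = 2) (hab : ∀ a ∈ U, ∀ b ∈ U, a * b = b * a)
    {Y : Subgroup P} (hY : ∃ a ∈ Y, ∃ b ∈ Y, a * b ≠ b * a) :
    centralizer (Y : Set P) ≤ center P := by
  obtain ⟨a, ha, b, hb, hne⟩ := hY
  intro c hc
  have hcY : ∀ y ∈ Y, c * y = y * c := fun y hy => (mem_centralizer_iff.1 hc y hy).symm
  obtain ⟨y, hy, hyU⟩ : ∃ y ∈ Y, y ∉ U := by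
    by_contra h
    push Not at h
    exact hne (hab a (h a ha) b (h b hb))
  by_cases hcU : c ∈ U
  · exact mem_center_of_commute hU hab hyU hcU (hcY y hy)
  · exfalso
    have hcen : ∀ u ∈ Y, u ∈ U → u ∈ center P := fun u huY huU =>
      mem_center_of_commute hU hab hcU huU (hcY u huY).symm
    have key : ∀ u ∈ Y, u ∈ U ∨ y⁻¹ * u ∈ U := fun u _ => by
      by_cases huU : u ∈ U
      · exact Or.inl huU
      · refine Or.inr ?_
        rw [mul_mem_iff_of_index_two hU]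
        simp [hyU, huU]
    refine hne ?_
    have comm : ∀ u ∈ Y, ∃ i ∈ center P, u = i ∨ u = y * i := fun u hu => by
      rcases key u hu with h | h
      · exact ⟨u, hcen u hu h, Or.inl rfl⟩
      · exact ⟨y⁻¹ * u, hcen _ (mul_mem (inv_mem hy) hu) h, Or.inr (by group)⟩
    obtain ⟨i, hi, ea⟩ := comm a ha
    obtain ⟨j, hj, eb⟩ := comm b hb
    rw [mem_center_iff] at hi hj
    rcases ea with ea | ea <;> rcases eb with eb | eb
    · rw [ea, eb]; exact (hi j).symm
    · rw [ea, eb]; exact (hi (y * j)).symm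
    · rw [ea, eb]; exact hj (y * i)
    · rw [ea, eb]
      calc y * i * (y * j) = y * (i * (y * j)) := by group
        _ = y * (y * j * i) := by rw [hi (y * j)]
        _ = y * (y * (i * j)) := by rw [mul_assoc y j i, (hi j)]
        _ = y * (y * i * j) := by group
        _ = y * (j * (y * i)) := by rw [← hj (y * i)]
        _ = y * j * (y * i) := by group

/-- The quotient by a normal non-abelian subgroup is abelian. -/
theorem commutator_mem (hU : U.index = 2) (hab : ∀ a ∈ U, ∀ b ∈ U, a * b = b * a)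
    {Y : Subgroup P} [Y.Normal] (hY : ∃ a ∈ Y, ∃ b ∈ Y, a * b ≠ b * a) (g h : P) :
    g * h * g⁻¹ * h⁻¹ ∈ Y := by
  obtain ⟨a, ha, b, hb, hne⟩ := hY
  obtain ⟨y, hy, hyU⟩ : ∃ y ∈ Y, y ∉ U := by
    by_contra h
    push Not at h
    exact hne (hab a (h a ha) b (h b hb))
  have key : ∀ g : P, ∃ u ∈ U, (g : P ⧸ Y) = u := fun g => by
    by_cases hg : g ∈ U
    · exact ⟨g, hg, rfl⟩
    · refine ⟨g * y, ?_, ?_⟩
      · rw [mul_mem_iff_of_index_two hU]
        simp [hyU, hg]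
      · rw [QuotientGroup.eq]
        simpa [mul_assoc] using hy
  obtain ⟨u, hu, eu⟩ := key g
  obtain ⟨v, hv, ev⟩ := key h
  rw [← QuotientGroup.eq_one_iff]
  simp only [QuotientGroup.mk_mul, QuotientGroup.mk_inv, eu, ev]
  rw [← QuotientGroup.mk_mul, hab u hu v hv, QuotientGroup.mk_mul]
  group

end IndexTwo

/-- Exponents `i` with `x ^ i` fixed by `x ↦ x ^ (2 ^ (n - 1) - 1)`. -/
theorem two_dvd_sub {n : ℕ} (hn : 3 ≤ n) :
    2 ∣ 2 ^ (n - 1) - 2 ∧ ¬ 4 ∣ 2 ^ (n - 1) - 2 ∧ 2 ≤ 2 ^ (n - 1) := by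
  obtain ⟨k, rfl⟩ : ∃ k, n = k + 3 := ⟨n - 3, by omega⟩
  have : 2 ^ (k + 3 - 1) = 4 * 2 ^ k := by
    rw [show k + 3 - 1 = k + 2 by omega, pow_add]; ring
  have := Nat.one_le_two_pow (n := k)
  omega

theorem qd_exists [Finite P] (hS : Cfsg.IsQuasiDihedral P) :
    ∃ U : Subgroup P, U.index = 2 ∧ (∀ a ∈ U, ∀ b ∈ U, a * b = b * a) ∧
      ∀ Y : Subgroup P, OneInvol Y → ∃ g : P, ¬ ∃ y ∈ Y, ∃ c ∈ center P, g = y * c := by
  obtain ⟨n, hn, hc, x, y, hx, hy, hyx⟩ := hS
  obtain ⟨hd2, hd4, hle⟩ := two_dvd_sub hn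
  have hi : (zpowers x).index = 2 := by
    have h := (zpowers x).index_mul_card
    rw [Nat.card_zpowers, hx, hc, pow_succ'] at h
    exact Nat.eq_of_mul_eq_mul_right (by positivity) h
  have hab : ∀ a ∈ zpowers x, ∀ b ∈ zpowers x, a * b = b * a := by
    rintro _ ⟨i, rfl⟩ _ ⟨j, rfl⟩
    exact (Commute.zpow_zpow_self x i j).eq
  refine ⟨zpowers x, hi, hab, fun Y hY => ?_⟩
  by_contra hcon
  push Not at hcon
  -- `x` is not fixed by `y`
  have hxy : y * x ≠ x * y := fun e => by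
    have h1 : x ^ (2 ^ (n - 1) - 1) = x ^ 1 := by rw [← hyx, e, pow_one]; group
    have h2 : 2 ^ n ∣ 2 ^ (n - 1) - 2 := by
      have h := (pow_eq_pow_iff_modEq.1 h1).symm
      rw [hx, Nat.modEq_iff_dvd' (by omega)] at h
      rwa [Nat.sub_sub] at h
    exact hd4 (dvd_trans ((pow_dvd_pow 2 (show 2 ≤ n by omega))) h2)
  have hyU : y ∉ zpowers x := fun h => hxy (hab y h x (mem_zpowers x))
  have hcen : center P ≤ zpowers x := fun c hc' => by
    by_contra h
    rw [mem_center_iff] at hc'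
    have h1 : c⁻¹ * y ∈ zpowers x := by
      rw [mul_mem_iff_of_index_two hi]
      simp [h, hyU]
    refine hxy ?_
    have e := hab _ h1 x (mem_zpowers x)
    calc y * x = c * (c⁻¹ * y * x) := by group
      _ = c * (x * (c⁻¹ * y)) := by rw [e]
      _ = c * x * c⁻¹ * y := by group
      _ = x * y := by rw [← hc' x]; group
  -- central elements have order at most two
  have hsq : ∀ c ∈ center P, c ^ 2 = 1 := fun c hcc => by
    obtain ⟨i, rfl⟩ := hcen hcc
    have e : y * x ^ i * y⁻¹ = x ^ i := by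
      rw [mem_center_iff.1 hcc y]; group
    rw [← conj_zpow, hyx, ← zpow_natCast, ← zpow_mul] at e
    have h1 : (x ^ i) ^ (2 ^ (n - 1) - 2) = 1 := by
      rw [← zpow_natCast, ← zpow_mul, Nat.cast_sub hle]
      rw [Nat.cast_sub (by omega)] at e
      rw [mul_sub, zpow_sub]
      have e' : x ^ (i * ((2 ^ (n - 1) : ℕ) : ℤ)) = x ^ i * x ^ i := by
        rw [show i * ((2 ^ (n - 1) : ℕ) : ℤ) = (((2 ^ (n - 1) : ℕ) : ℤ) - ((1 : ℕ) : ℤ)) * i + i by
          push_cast; ring, zpow_add, e]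
      rw [e', show i * ((2 : ℕ) : ℤ) = i + i by push_cast; ring, zpow_add, mul_inv_cancel]
    have h2 : (x ^ i) ^ (2 ^ n) = 1 := by
      rw [← zpow_natCast, ← zpow_mul, mul_comm, zpow_mul, zpow_natCast, ← hx, pow_orderOf_eq_one,
        one_zpow]
    obtain ⟨k, hk⟩ := hd2
    refine orderOf_dvd_iff_pow_eq_one.1 (dvd_trans
      (Nat.dvd_gcd (orderOf_dvd_of_pow_eq_one h1) (orderOf_dvd_of_pow_eq_one h2)) ?_)
    rw [hk, show n = n - 1 + 1 by omega, pow_succ' 2 (n - 1), Nat.gcd_mul_left]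
    have hk2 : Nat.Coprime k (2 ^ (n - 1)) := by
      refine Nat.Coprime.pow_right _ ((Nat.prime_two.coprime_iff_not_dvd.2 fun h => hd4 ?_).symm)
      rw [hk]
      exact Nat.mul_dvd_mul_left 2 h
    rw [hk2.gcd_eq_one]
  obtain ⟨y0, hy0, c, hc0, ey⟩ := hcon y
  obtain ⟨y1, hy1, c1, hc1, ex⟩ := hcon x
  have hw : x * y * x⁻¹ * y⁻¹ ∈ Y := by
    have h0 := mem_center_iff.1 hc0
    have h1 := mem_center_iff.1 hc1
    have : x * y * x⁻¹ * y⁻¹ = y1 * y0 * y1⁻¹ * y0⁻¹ := by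
      calc x * y * x⁻¹ * y⁻¹ = y1 * (c1 * (y0 * c)) * c1⁻¹ * y1⁻¹ * c⁻¹ * y0⁻¹ := by rw [ex, ey]; group
        _ = y1 * (y0 * c * c1) * c1⁻¹ * y1⁻¹ * c⁻¹ * y0⁻¹ := by rw [h1 (y0 * c)]
        _ = y1 * y0 * (c * y1⁻¹) * c⁻¹ * y0⁻¹ := by group
        _ = y1 * y0 * (y1⁻¹ * c) * c⁻¹ * y0⁻¹ := by rw [h0 y1⁻¹]
        _ = y1 * y0 * y1⁻¹ * y0⁻¹ := by group
    rw [this]
    exact mul_mem (mul_mem (mul_mem hy1 hy0) (inv_mem hy1)) (inv_mem hy0)
  let t := x ^ (2 ^ (n - 1))
  have ht : orderOf t = 2 := by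
    rw [orderOf_pow_of_dvd (by positivity) (by rw [hx]; exact pow_dvd_pow 2 (by omega)), hx,
      Nat.pow_div (by omega) (by omega)]
    simp [show n - (n - 1) = 1 by omega]
  have htY : t ∈ Y := by
    -- the commutator is `x ^ 2 - 2 ^ (n - 1)`
    have e : (x * y * x⁻¹ * y⁻¹)⁻¹ = x ^ (2 ^ (n - 1) - 2) := by
      rw [show (x * y * x⁻¹ * y⁻¹)⁻¹ = y * x * y⁻¹ * x⁻¹ by group, hyx,
        show 2 ^ (n - 1) - 1 = 2 ^ (n - 1) - 2 + 1 by omega, pow_succ, mul_inv_cancel_right]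
    obtain ⟨k, hk⟩ := hd2
    have hk2 : ¬ 2 ∣ k := fun h => hd4 (hk ▸ Nat.mul_dvd_mul_left 2 h)
    have : (x ^ (2 ^ (n - 1) - 2)) ^ (2 ^ (n - 2)) = t := by
      rw [← pow_mul, hk]
      refine pow_eq_pow_iff_modEq.2 ?_
      rw [hx, show n - 1 = n - 2 + 1 by omega, pow_succ' 2 (n - 2),
        show 2 * k * 2 ^ (n - 2) = k * (2 * 2 ^ (n - 2)) by ring,
        show (2 : ℕ) ^ n = 2 * (2 * 2 ^ (n - 2)) by
          rw [← pow_succ', ← pow_succ']; congr 1; omega]
      obtain ⟨j, rfl⟩ : ∃ j, k = 2 * j + 1 := ⟨k / 2, by omega⟩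
      rw [Nat.ModEq, add_mul, one_mul, show 2 * j * (2 * 2 ^ (n - 2)) =
        2 * (2 * 2 ^ (n - 2)) * j by ring, Nat.mul_add_mod]
    rw [← this, ← e]
    exact pow_mem (inv_mem hw) _
  have htU : t ∈ zpowers x := pow_mem (mem_zpowers x) _
  have hcY : c ∈ Y := by
    by_cases h1 : c = 1
    · rw [h1]; exact one_mem _
    · obtain ⟨j, rfl⟩ := hcen hc0
      have hj : ((2 ^ n : ℕ) : ℤ) ∣ j * 2 := by
        rw [← hx, orderOf_dvd_iff_zpow_eq_one, zpow_mul, show (2 : ℤ) = ((2 : ℕ) : ℤ) from rfl,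
          zpow_natCast]
        exact hsq _ hc0
      rw [show n = n - 1 + 1 by omega, pow_succ, Nat.cast_mul] at hj
      obtain ⟨l, rfl⟩ := Int.dvd_of_mul_dvd_mul_right (by norm_num) hj
      show x ^ (((2 ^ (n - 1) : ℕ) : ℤ) * l) ∈ Y
      rw [zpow_mul, zpow_natCast]
      exact zpow_mem htY l
  have hyY : y ∈ Y := ey ▸ mul_mem hy0 hcY
  exact hyU (hY y hyY t htY hy ht ▸ htU)

theorem wreathed_exists [Finite P] (hS : Cfsg.IsWreathed P) :
    ∃ U : Subgroup P, U.index = 2 ∧ (∀ a ∈ U, ∀ b ∈ U, a * b = b * a) ∧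
      ∀ Y : Subgroup P, OneInvol Y → ∃ g : P, ¬ ∃ y ∈ Y, ∃ c ∈ center P, g = y * c := by
  obtain ⟨n, hn, hc, x, y, z, hx, hxy, hd, hz, hzx⟩ := hS
  have hy : orderOf y = 2 ^ n := by rw [← hzx]; exact (MulAut.conj z).orderOf_eq x ▸ hx
  have hz2 : z * z = 1 := by rw [← pow_two, ← hz, pow_orderOf_eq_one]
  have hzy : z * y * z⁻¹ = x := by
    rw [← hzx, inv_eq_of_mul_eq_one_right hz2]
    calc z * (z * x * z) * z = (z * z) * x * (z * z) := by group
      _ = x := by rw [hz2, one_mul, mul_one]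
  have hcomm : ∀ i j : ℤ, Commute (x ^ i) (y ^ j) := fun i j => (Commute.zpow_zpow hxy i j)
  let f : zpowers x × zpowers y →* P :=
    MonoidHom.noncommCoprod (zpowers x).subtype (zpowers y).subtype (by
      rintro ⟨_, i, rfl⟩ ⟨_, j, rfl⟩; exact hcomm i j)
  have hf : ∀ p : zpowers x × zpowers y, f p = (p.1 : P) * p.2 := fun p => rfl
  have hinj : Function.Injective f := by
    rw [injective_iff_map_eq_one]
    rintro ⟨⟨a, ha⟩, ⟨b, hb⟩⟩ h
    rw [hf] at h
    simp only at h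
    have ha1 : a = 1 := by
      have : a ∈ zpowers x ⊓ zpowers y :=
        mem_inf.2 ⟨ha, (eq_inv_of_mul_eq_one_left h).symm ▸ (zpowers y).inv_mem hb⟩
      rwa [hd, mem_bot] at this
    subst ha1
    rw [one_mul] at h
    subst h
    rfl
  have hi : f.range.index = 2 := by
    have h := f.range.index_mul_card
    rw [Nat.card_congr (MonoidHom.ofInjective hinj).symm.toEquiv, Nat.card_prod, Nat.card_zpowers,
      Nat.card_zpowers, hx, hy, hc, show 2 ^ (2 * n + 1) = 2 * (2 ^ n * 2 ^ n) by ring] at h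
    exact Nat.eq_of_mul_eq_mul_right (by positivity) h
  have hmem : ∀ {u}, u ∈ f.range → ∃ i j : ℤ, u = x ^ i * y ^ j := by
    rintro u ⟨⟨⟨_, i, rfl⟩, ⟨_, j, rfl⟩⟩, rfl⟩
    exact ⟨i, j, rfl⟩
  have hab : ∀ a ∈ f.range, ∀ b ∈ f.range, a * b = b * a := by
    intro a ha b hb
    obtain ⟨i, j, rfl⟩ := hmem ha
    obtain ⟨k, l, rfl⟩ := hmem hb
    exact (((Commute.zpow_zpow_self x i k).mul_right (hcomm i l)).mul_left
      ((hcomm k j).symm.mul_right (Commute.zpow_zpow_self y j l))).eq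
  refine ⟨f.range, hi, hab, fun Y hY => ?_⟩
  by_contra hcon
  push Not at hcon
  have hxU : x ∈ f.range := ⟨(⟨x, mem_zpowers x⟩, 1), by rw [hf]; simp⟩
  -- the two involutions
  set m := 2 ^ (n - 1) with hm
  have hm2 : m * 2 = 2 ^ n := by rw [hm, ← pow_succ, show n - 1 + 1 = n by omega]
  set a := x ^ m with ha
  set b := y ^ m with hb
  have ha2 : a * a = 1 := by rw [← pow_add, ← mul_two, hm2, ← hx, pow_orderOf_eq_one]
  have hb2 : b * b = 1 := by rw [← pow_add, ← mul_two, hm2, ← hy, pow_orderOf_eq_one]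
  have ha1 : a ≠ 1 := pow_ne_one_of_lt_orderOf (by positivity) (by
    rw [hx, ← hm2]
    have : 0 < m := by positivity
    omega)
  have hzab : z * a * z⁻¹ = b := by rw [ha, hb, ← conj_pow, hzx]
  have hne : a ≠ b := fun e => ha1 (by
    have : a ∈ zpowers x ⊓ zpowers y :=
      ⟨pow_mem (mem_zpowers x) m, e ▸ pow_mem (mem_zpowers y) m⟩
    rwa [hd, mem_bot] at this)
  obtain ⟨y0, hy0, c, hc0, ez⟩ := hcon z
  obtain ⟨y1, hy1, c1, hc1, ex⟩ := hcon x
  have h0 := mem_center_iff.1 hc0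
  have h1 := mem_center_iff.1 hc1
  have ey : y = y0 * y1 * y0⁻¹ * c1 := by
    calc y = z * x * z⁻¹ := hzx.symm
      _ = y0 * (c * (y1 * c1)) * c⁻¹ * y0⁻¹ := by rw [ez, ex]; group
      _ = y0 * (y1 * c1) * y0⁻¹ := by rw [← h0 (y1 * c1)]; group
      _ = y0 * y1 * (c1 * y0⁻¹) := by group
      _ = y0 * y1 * (y0⁻¹ * c1) := by rw [h1 y0⁻¹]
      _ = _ := by group
  have hw : x * y⁻¹ ∈ Y := by
    have : x * y⁻¹ = y1 * (y0 * y1 * y0⁻¹)⁻¹ := by rw [ex, ey]; group
    rw [this]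
    exact mul_mem hy1 (inv_mem (mul_mem (mul_mem hy0 hy1) (inv_mem hy0)))
  have hxy' : Commute x y⁻¹ := (show Commute x y from hxy).inv_right
  have habY : a * b ∈ Y := by
    have : (x * y⁻¹) ^ m = a * b := by rw [hxy'.mul_pow, inv_pow, inv_eq_of_mul_eq_one_right hb2]
    exact this ▸ pow_mem hw m
  have hab' : Commute a b := (show Commute x y from hxy).pow_pow m m
  have habo : orderOf (a * b) = 2 := orderOf_eq_prime (by
    rw [hab'.mul_pow, pow_two, pow_two, ha2, hb2, one_mul])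
    (fun e => hne (by rw [eq_inv_of_mul_eq_one_left e, inv_eq_of_mul_eq_one_right hb2]))
  have hcU : c1 ∈ f.range := by
    by_contra hcU
    have hall : ∀ u ∈ f.range, u ∈ center P := fun u hu =>
      mem_center_of_commute hi hab hcU hu (h1 u)
    have hxc := mem_center_iff.1 (hall x hxU) z
    refine hne ?_
    rw [ha, hb]
    congr 1
    rw [← hzx, hxc, mul_inv_cancel_right]
  have hcpow : c1 ^ (2 ^ n) = 1 := by
    obtain ⟨i, j, e⟩ := hmem hcU
    rw [e, (hcomm i j).mul_pow, ← zpow_natCast (x ^ i), ← zpow_natCast (y ^ j), ← zpow_mul,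
      ← zpow_mul, mul_comm i, mul_comm j, zpow_mul, zpow_mul, zpow_natCast, zpow_natCast, ← hx,
      pow_orderOf_eq_one, hx, ← hy, pow_orderOf_eq_one, one_zpow, one_zpow, one_mul]
  have hy1c : Commute y1 c1 := h1 y1
  have hy1m : y1 ^ m = a * b ∨ y1 ^ m = 1 := by
    by_cases he : y1 ^ m = 1
    · exact Or.inr he
    · refine Or.inl (hY _ (pow_mem hy1 m) _ habY (orderOf_eq_prime ?_ he) habo)
      rw [← pow_mul, hm2]
      have : (y1 * c1) ^ (2 ^ n) = 1 := by rw [← ex, ← hx, pow_orderOf_eq_one]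
      rwa [hy1c.mul_pow, hcpow, mul_one] at this
  have hfix : z * y1 ^ m * z⁻¹ = y1 ^ m := by
    rcases hy1m with e | e <;> rw [e]
    · rw [show z * (a * b) * z⁻¹ = z * a * z⁻¹ * (z * b * z⁻¹) by group, hzab,
        show z * b * z⁻¹ = a by rw [ha, hb, ← conj_pow, hzy], hab'.eq]
    · group
  refine hne ?_
  have hfix2 : z * c1 ^ m * z⁻¹ = c1 ^ m := by
    rw [mem_center_iff.1 (pow_mem hc1 m) z, mul_inv_cancel_right]
  calc a = y1 ^ m * c1 ^ m := by rw [ha, ex, hy1c.mul_pow]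
    _ = z * (y1 ^ m * c1 ^ m) * z⁻¹ := by
      rw [show z * (y1 ^ m * c1 ^ m) * z⁻¹ = z * y1 ^ m * z⁻¹ * (z * c1 ^ m * z⁻¹) by group,
        hfix, hfix2]
    _ = b := by rw [← hy1c.mul_pow, ← ex, ← ha, hzab]

/-- The facts used, for both types. -/
theorem qdw_exists [Finite P] (hS : Cfsg.IsQuasiDihedral P ∨ Cfsg.IsWreathed P) :
    ∃ U : Subgroup P, U.index = 2 ∧ (∀ a ∈ U, ∀ b ∈ U, a * b = b * a) ∧
      ∀ Y : Subgroup P, OneInvol Y → ∃ g : P, ¬ ∃ y ∈ Y, ∃ c ∈ center P, g = y * c :=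
  hS.elim qd_exists wreathed_exists

open CfsgLib.ZStar in
/-- An automorphism of `Q₈` trivial modulo the centre is inner. -/
theorem q8_inner (β : MulAut (QuaternionGroup 2))
    (h : ∀ z, β z = z ∨ β z = QuaternionGroup.a 2 * z) :
    ∃ w, ∀ z, β z = w * z * w⁻¹ := by
  have key : ∀ x y : QuaternionGroup 2, (∀ z, q8Map x y z = z ∨ q8Map x y z = .a 2 * z) →
      ∃ w, ∀ z, q8Map x y z = w * z * w⁻¹ := by decide +kernel
  obtain ⟨w, hw⟩ := key _ _ (fun z => by rw [q8Map_eq]; exact h z)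
  exact ⟨w, fun z => by rw [← q8Map_eq β z]; exact hw z⟩

open CfsgLib.ZStar in
/-- An automorphism of exponent four commuting modulo the centre with the standard automorphism
of order three is inner. -/
theorem q8_inner_of_commute (β : MulAut (QuaternionGroup 2)) (h4 : β ^ 4 = 1)
    (h : ∀ z, β (q8Sigma z) = q8Sigma (β z) ∨ β (q8Sigma z) = QuaternionGroup.a 2 * q8Sigma (β z)) :
    ∃ w, ∀ z, β z = w * z * w⁻¹ := by
  have key : ∀ x y : QuaternionGroup 2,
      (∀ z w, q8Map x y (z * w) = q8Map x y z * q8Map x y w) →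
      (∀ z, q8Map x y (q8Map x y (q8Map x y (q8Map x y z))) = z) →
      (∀ z, q8Map x y (q8Sigma z) = q8Sigma (q8Map x y z) ∨
        q8Map x y (q8Sigma z) = .a 2 * q8Sigma (q8Map x y z)) →
      ∃ w, ∀ z, q8Map x y z = w * z * w⁻¹ := by decide +kernel
  have hf := q8Map_eq β
  obtain ⟨w, hw⟩ := key (β (.a 1)) (β (.xa 0)) (fun z w => by simp only [hf, map_mul])
    (fun z => by
      simp only [hf]
      have := congrArg (fun e : MulAut (QuaternionGroup 2) => e z) h4
      simpa [pow_succ, MulAut.mul_apply] using this)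
    (fun z => by simp only [hf]; exact h z)
  exact ⟨w, fun z => by rw [← hf z]; exact hw z⟩

open CfsgLib.ZStar in
/-- An automorphism of `Q₈` of 2-power order has exponent four. -/
theorem q8_four (β : MulAut (QuaternionGroup 2)) {k : ℕ} (hk : β ^ 2 ^ k = 1) : β ^ 4 = 1 := by
  have key : ∀ x y : QuaternionGroup 2,
      (∀ z w, q8Map x y (z * w) = q8Map x y z * q8Map x y w) →
      (∀ z, q8Map x y z = 1 → z = 1) →
      (∀ z, q8Map x y (q8Map x y (q8Map x y (q8Map x y z))) = z) ∨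
        ∀ z, q8Map x y (q8Map x y (q8Map x y z)) = z := by decide +kernel
  have hf := q8Map_eq β
  rcases key (β (.a 1)) (β (.xa 0)) (fun z w => by simp only [hf, map_mul])
      (fun z hz => by rw [hf] at hz; exact β.injective (hz.trans (map_one β).symm)) with h | h
  · refine MulEquiv.ext fun z => ?_
    have := h z
    simp only [hf] at this
    simpa [pow_succ, MulAut.mul_apply] using this
  · have h3 : β ^ 3 = 1 := MulEquiv.ext fun z => by
      have := h z
      simp only [hf] at this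
      simpa [pow_succ, MulAut.mul_apply] using this
    have : β = 1 := orderOf_eq_one_iff.1 (Nat.eq_one_of_dvd_coprimes
      (Nat.Coprime.pow_left k (by norm_num : Nat.Coprime 2 3))
      (orderOf_dvd_of_pow_eq_one hk) (orderOf_dvd_of_pow_eq_one h3))
    rw [this, one_pow]

theorem q8_center : ∀ z : QuaternionGroup 2, (∀ y, z * y = y * z) → z = 1 ∨ z = .a 2 := by
  decide +kernel

/-- A central element of the derived group of `p`-power order dies if the Sylow subgroup is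
abelian. -/
theorem eq_one_of_mem_commutator {E : Type*} [Group E] [Finite E] {p : ℕ} [Fact p.Prime]
    (T : Sylow p E) (hT : ∀ a ∈ (T : Subgroup E), ∀ b ∈ (T : Subgroup E), a * b = b * a) {z : E}
    (hzT : z ∈ (T : Subgroup E)) (hzc : z ∈ center E) (hz : z ∈ commutator E) : z = 1 := by
  let _ : CommGroup (T : Subgroup E) :=
    { (inferInstance : Group (T : Subgroup E)) with
      mul_comm := fun a b => Subtype.ext (hT a a.2 b b.2) }
  let τ := MonoidHom.transfer (MonoidHom.id (T : Subgroup E))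
  have h1 : τ z = 1 := Abelianization.commutator_subset_ker τ hz
  have hkey : ∀ (k : ℕ) (g₀ : E), g₀⁻¹ * z ^ k * g₀ ∈ (T : Subgroup E) → g₀⁻¹ * z ^ k * g₀ = z ^ k := by
    intro k g₀ _
    rw [mem_center_iff.1 (pow_mem hzc k) g₀⁻¹]
    group
  rw [show τ z = _ from MonoidHom.transfer_eq_pow _ z hkey] at h1
  have h2 : z ^ (T : Subgroup E).index = 1 := congrArg Subtype.val h1
  obtain ⟨k, hk⟩ := T.isPGroup' ⟨z, hzT⟩
  have hk' : z ^ p ^ k = 1 := congrArg Subtype.val hk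
  refine orderOf_eq_one_iff.1 (Nat.eq_one_of_dvd_coprimes ?_ (orderOf_dvd_of_pow_eq_one hk')
    (orderOf_dvd_of_pow_eq_one h2))
  exact Nat.Coprime.pow_left k ((Fact.out : p.Prime).coprime_iff_not_dvd.2 T.not_dvd_index)

end CfsgLib.GW.Deps.QGroup
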